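import Cfsg.Agent.Helper36.E8Odd.Api
import Cfsg.Agent.Helper36.BruhatUnique
import Cfsg.Agent.Helper18.CoxFaithful
import Cfsg.Agent.Helper18.WeylHom
import Cfsg.Agent.Helper18.LongWord
import Cfsg.Agent.Helper19.Twist.OrdD4
import Cfsg.Agent.S1038

/-!
Helper36 (S4281, with helper18): the monomial group `N` of `E₈(F)`: representatives `nW w` of words, their action on the
root groups, the computable action `aW` on the root indices, the homomorphism `thetaE8 : N → W(E₈)`, conjugacy under `G`,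
the reduction of involutions to `N` (port of `Helper36.F4Odd.NApi`).
-/

set_option autoImplicit false
set_option maxRecDepth 100000

namespace Cfsg.Agent.Helper36.E8Odd

open Cfsg Cfsg.Lie Cfsg.Agent.Helper18 Cfsg.Agent.Helper40.SL2Hom Cfsg.Agent.Helper19.Cox
  Cfsg.Agent.Helper19.Poinc Cfsg.Agent.Helper19.Twist

/-- the action of a word on a root index, from the packed tables (computable) -/
abbrev aW (w : List ℕ) (x : ℕ) : ℕ := actW reflTabsE8 8 240 w x

theorem aW_eq_rho (w : List ℕ) (hw : ∀ i ∈ w, i < 8) (x : ℕ) (hx : x < 240) :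
    aW w x = rho chevE8 w x ∧ rho chevE8 w x < 240 :=
  actW_eq_rho chevE8 reflTabsE8 tabsOK_E8 w hw x hx

theorem aW_lt (w : List ℕ) (hw : ∀ i ∈ w, i < 8) (x : ℕ) (hx : x < 240) : aW w x < 240 := by
  obtain ⟨e, h⟩ := aW_eq_rho w hw x hx
  rw [e]; exact h

theorem aW_append (w w' : List ℕ) (x : ℕ) : aW (w ++ w') x = aW w (aW w' x) :=
  actW_append _ _ _ _ _ _

section
variable {F : Type*} [Field F]

instance instHN : (Cfsg.Agent.Helper18.HN chevE8 F).Normal := Cfsg.Agent.S1038.result chevE8 hE8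

/-- the homomorphism `N → W(E₈)` -/
noncomputable abbrev thetaE8 : ↥(chevE8.monomialSubgroup F) →* certE8.M.Group :=
  theta chevE8 hE8 certE8 (Cfsg.Agent.Helper18.nConjHyp chevE8 hE8)

/-- the product of the fundamental `n_p` along a word in `{0, …, 7}` -/
noncomputable def nW (w : List ℕ) : GL chevE8.Idx F := nWordsGL chevE8 F w

theorem nW_nil : nW (F := F) [] = 1 := by simp [nW, nWordsGL]

theorem nW_cons (i : ℕ) (w : List ℕ) :
    nW (F := F) (i :: w) = wordGL chevE8 F (chevE8.nWord (chevE8.simple i) (1 : F)) * nW w := by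
  simp [nW, nWordsGL]

theorem nW_append (w₁ w₂ : List ℕ) : nW (F := F) (w₁ ++ w₂) = nW w₁ * nW w₂ := by
  simp [nW, nWordsGL, List.map_append, List.prod_append]

theorem nW_mem (w : List ℕ) (hw : ∀ i ∈ w, i < 8) : nW (F := F) w ∈ chevE8.monomialSubgroup F :=
  nWordsGL_mem chevE8 hE8 w hw

theorem simple_lt240 (i : ℕ) (hi : i < 8) : chevE8.simple i < 240 :=
  simple_lt chevE8 (simpleOK_of_mem chevE8 hE8) i hi

/-- `nW [i] = n_{p_i}` -/
theorem nW_singleton (i : ℕ) (hi : i < 8) : nW (F := F) [i] = nn (chevE8.simple i) := by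
  rw [nW_cons, nW_nil, mul_one, nn_eq _ (simple_lt240 i hi)]

/-- `H` is normalised by `N` -/
theorem conj_mem_diagonal (n k : GL chevE8.Idx F) (hn : n ∈ chevE8.monomialSubgroup F)
    (hk : k ∈ chevE8.diagonalSubgroup F) : n * k * n⁻¹ ∈ chevE8.diagonalSubgroup F :=
  (Subgroup.mem_normalizer_iff.mp (monomialSubgroup_le_normalizer chevE8 hE8 hn) _).mp hk

theorem conj_mem_diagonal' (n k : GL chevE8.Idx F) (hn : n ∈ chevE8.monomialSubgroup F)
    (hk : k ∈ chevE8.diagonalSubgroup F) : n⁻¹ * k * n ∈ chevE8.diagonalSubgroup F := by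
  have := conj_mem_diagonal n⁻¹ k (inv_mem hn) hk
  rwa [inv_inv] at this

theorem diagonal_le_monomial : chevE8.diagonalSubgroup F ≤ chevE8.monomialSubgroup F :=
  diagonalSubgroup_le_monomialSubgroup (F := F) chevE8

/-- every element of `N` is `k n_w` -/
theorem monomial_decomp (n : GL chevE8.Idx F) (hn : n ∈ chevE8.monomialSubgroup F) :
    ∃ w : List ℕ, (∀ i ∈ w, i < 8) ∧ ∃ k ∈ chevE8.diagonalSubgroup F, n = k * nW w :=
  mem_monomial_decomp chevE8 hE8 n hn

/-- the image in the Weyl group of the representative of a word -/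
theorem theta_nW (w : List ℕ) (hw : ∀ i ∈ w, i < 8) :
    thetaE8 (F := F) ⟨nW w, nW_mem w hw⟩ = gp certE8.M w := by
  apply theta_eq_of_mk
  unfold psiC
  rw [psi_gp chevE8 hE8 _ _ _ _ _ _ _ w hw]
  rfl

/-- the image in the Weyl group determines the coset of `H` -/
theorem theta_eq_iff (n n' : GL chevE8.Idx F) (hn : n ∈ chevE8.monomialSubgroup F)
    (hn' : n' ∈ chevE8.monomialSubgroup F) :
    thetaE8 (F := F) ⟨n, hn⟩ = thetaE8 ⟨n', hn'⟩ ↔ n * n'⁻¹ ∈ chevE8.diagonalSubgroup F := by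
  have h1 : thetaE8 (F := F) ⟨n, hn⟩ = thetaE8 ⟨n', hn'⟩ ↔
      thetaE8 (F := F) (⟨n, hn⟩ * (⟨n', hn'⟩ : ↥(chevE8.monomialSubgroup F))⁻¹) = 1 := by
    rw [map_mul, map_inv, mul_inv_eq_one]
  rw [h1, theta_eq_one_iff chevE8 hE8]
  rfl

/-- words with the same action on the roots have representatives that differ by an element of `H` -/
theorem nW_congr (w w' : List ℕ) (hw : ∀ i ∈ w, i < 8) (hw' : ∀ i ∈ w', i < 8)
    (h : ∀ r < 240, rho chevE8 w r = rho chevE8 w' r) :
    ∃ k ∈ chevE8.diagonalSubgroup F, nW (F := F) w = k * nW w' := by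
  have e : gp certE8.M w = gp certE8.M w' := by
    apply gp_eq_of_actW certE8
    intro x hx
    rw [(actW_eq_rho chevE8 _ certE8.ht w hw x hx).1, (actW_eq_rho chevE8 _ certE8.ht w' hw' x hx).1]
    exact h x hx
  refine ⟨nW w * (nW w')⁻¹, ?_, by group⟩
  rw [← theta_eq_iff _ _ (nW_mem w hw) (nW_mem w' hw'), theta_nW w hw, theta_nW w' hw', e]

/-- conversely: words whose representatives differ by an element of `H` act in the same way on the roots -/
theorem rho_eq_of_nW (w w' : List ℕ) (hw : ∀ i ∈ w, i < 8) (hw' : ∀ i ∈ w', i < 8)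
    (h : nW (F := F) w * (nW w')⁻¹ ∈ chevE8.diagonalSubgroup F) : gp certE8.M w = gp certE8.M w' := by
  rw [← theta_eq_iff _ _ (nW_mem w hw) (nW_mem w' hw'), theta_nW w hw, theta_nW w' hw'] at h
  exact h

theorem reflect_lt (i s : ℕ) (hi : i < chevE8.rank) (hs : s < chevE8.nroots) : chevE8.reflectRoot i s < chevE8.nroots :=
  reflectRoot_lt chevE8 hE8 i s hi hs

/-- `n_w x_s(t) n_w⁻¹ = x_{w s}(± t)` -/
theorem nW_conj (w : List ℕ) (hw : ∀ i ∈ w, i < 8) (s : ℕ) (hs : s < 240) :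
    rho chevE8 w s < 240 ∧ ∃ η : F, (η = 1 ∨ η = -1) ∧
      ∀ t : F, nW w * X s t * (nW w)⁻¹ = X (rho chevE8 w s) (η * t) := by
  obtain ⟨hlt, η, hη, h⟩ := nWordsGL_conj_xGL (F := F) chevE8 hE8 (nConjHyp chevE8 hE8) reflect_lt w hw s hs
  refine ⟨hlt, (η : F), ?_, fun t => ?_⟩
  · rcases hη with rfl | rfl
    · left; simp
    · right; simp
  · rw [mul_inv_eq_iff_eq_mul]
    exact h t

theorem X_injective (r : ℕ) (hr : r < 240) (a b : F) (h : X r a = X r b) : a = b := by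
  apply x_injective chevE8 hE8 r hr
  have := congrArg (fun g : GL chevE8.Idx F => (g : Matrix chevE8.Idx chevE8.Idx F)) h
  simpa [X, xGL_val chevE8 _ (triOK_of_mem chevE8 hE8)] using this

theorem X_mem_pos (r : ℕ) (hr : 120 ≤ r ∧ r < 240) (t : F) : X r t ∈ chevE8.posUnipotent F :=
  xGL_mem_posUnipotent chevE8 hE8 r hr t

theorem X_zero (r : ℕ) : X r (0 : F) = 1 := Cfsg.Agent.Helper18.xGL_zero' chevE8 hE8 r

theorem X_neg (r : ℕ) (t : F) : X r (-t) = (X r t)⁻¹ := by
  apply eq_inv_of_mul_eq_one_left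
  rw [← X_add, neg_add_cancel, X_zero]

/-- the action of `k n_w` on the root groups -/
theorem monomial_conj (c : Fin chevE8.rank → Fˣ) (w : List ℕ) (hw : ∀ i ∈ w, i < 8) (s : ℕ) (hs : s < 240) :
    rho chevE8 w s < 240 ∧ ∃ η : F, (η = 1 ∨ η = -1) ∧
      ∀ t : F, (tor c * nW w) * X s t * (tor c * nW w)⁻¹ = X (rho chevE8 w s) ((chr (rho chevE8 w s) c : Fˣ) * η * t) := by
  obtain ⟨hlt, η, hη, hconj⟩ := nW_conj (F := F) w hw s hs
  refine ⟨hlt, η, hη, fun t => ?_⟩
  have e : tor c * nW w * X s t * (tor c * nW w)⁻¹ =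
      tor c * (nW w * X s t * (nW w)⁻¹) * (tor c)⁻¹ := by group
  rw [e, hconj t, tor_conj c _ hlt, mul_assoc]

/-- conjugacy under the group `E₈(F)` (for elements of the ambient general linear group) -/
def ConjG (x y : GL chevE8.Idx F) : Prop := ∃ g ∈ chevE8.group F, g * x * g⁻¹ = y

theorem ConjG.refl (x : GL chevE8.Idx F) : ConjG x x := ⟨1, one_mem _, by group⟩

theorem ConjG.symm {x y : GL chevE8.Idx F} (h : ConjG x y) : ConjG y x := by
  obtain ⟨g, hg, rfl⟩ := h
  exact ⟨g⁻¹, inv_mem hg, by group⟩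

theorem ConjG.trans {x y z : GL chevE8.Idx F} (h : ConjG x y) (h' : ConjG y z) : ConjG x z := by
  obtain ⟨g, hg, rfl⟩ := h
  obtain ⟨g', hg', rfl⟩ := h'
  exact ⟨g' * g, mul_mem hg' hg, by group⟩

theorem ConjG.sq_eq_one {x y : GL chevE8.Idx F} (h : ConjG x y) (hx : x * x = 1) : y * y = 1 := by
  obtain ⟨g, -, rfl⟩ := h
  calc g * x * g⁻¹ * (g * x * g⁻¹) = g * (x * x) * g⁻¹ := by group
    _ = 1 := by rw [hx]; group

theorem ConjG.mem_group {x y : GL chevE8.Idx F} (h : ConjG x y) (hx : x ∈ chevE8.group F) : y ∈ chevE8.group F := by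
  obtain ⟨g, hg, rfl⟩ := h
  exact mul_mem (mul_mem hg hx) (inv_mem hg)

theorem diagonal_le_group : chevE8.diagonalSubgroup F ≤ chevE8.group F :=
  (diagonal_le_borel (F := F) chevE8 hE8).trans borel_le_group

/-- the Bruhat decomposition `G = B N B` -/
theorem bruhat (g : GL chevE8.Idx F) (hg : g ∈ chevE8.group F) :
    ∃ b ∈ chevE8.borelSubgroup F, ∃ n ∈ chevE8.monomialSubgroup F, ∃ b' ∈ chevE8.borelSubgroup F, g = b * n * b' := by
  obtain ⟨b, hb, n, hn, u, hu, e⟩ := (Cfsg.Agent.S1100.result (F := F) chevE8 hE8).1 g hg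
  exact ⟨b, hb, n, hn, u, posUnipotent_le_borel (F := F) chevE8 hE8 (Cfsg.Agent.Helper36.bruhatU_le_pos chevE8 n hu), e⟩

/-- an involution in the cell `B n B` is conjugate to an involution in `H n` -/
theorem invol_cell [Fintype F] (hF : Odd (Fintype.card F)) (b n b' : GL chevE8.Idx F)
    (hb : b ∈ chevE8.borelSubgroup F) (hn : n ∈ chevE8.monomialSubgroup F) (hb' : b' ∈ chevE8.borelSubgroup F)
    (h2 : (b * n * b') * (b * n * b') = 1) :
    ∃ k ∈ chevE8.diagonalSubgroup F, (k * n) * (k * n) = 1 ∧ ConjG (b * n * b') (k * n) := by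
  obtain ⟨g, hg, k, hk, e, hkn⟩ := Cfsg.Agent.Helper18.InvOdd.invol_conj_monomial chevE8 hE8 hF b n b' hb hn hb' h2
  exact ⟨k, hk, hkn, g, borel_le_group hg, e⟩

/-- every involution of `E₈(F)`, `|F|` odd, is conjugate to an involution of `N` -/
theorem invol_to_N [Fintype F] (hF : Odd (Fintype.card F)) (t : GL chevE8.Idx F) (ht : t ∈ chevE8.group F)
    (h2 : t * t = 1) : ∃ m ∈ chevE8.monomialSubgroup F, m * m = 1 ∧ ConjG t m := by
  obtain ⟨b, hb, n, hn, b', hb', rfl⟩ := bruhat t ht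
  obtain ⟨k, hk, hkn, hc⟩ := invol_cell hF b n b' hb hn hb' h2
  exact ⟨k * n, mul_mem (diagonalSubgroup_le_monomialSubgroup (F := F) chevE8 hk) hn, hkn, hc⟩

end

end Cfsg.Agent.Helper36.E8Odd
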