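import Cfsg.Agent.Helper36.E8Odd.Defs2
import Cfsg.Agent.Helper18.E8Odd.DataD8
import Cfsg.Agent.Helper18.E8Odd.DataE7A1

/-!
Helper36 (S4281): the masks of helper18's certificates for `W(D₈)`, `W(E₇ × A₁)` are the masks of the roots with value `1`
on `tor (sv 6)`, `tor (sv 82)`; the numbers of such positive roots.
-/

set_option autoImplicit false
set_option maxRecDepth 100000

namespace Cfsg.Agent.Helper36.E8Odd

open Cfsg Cfsg.Lie Cfsg.Agent.Helper18 Cfsg.Agent.Helper18.E8Odd

/-- (PSI6) the mask of helper18's `D₈` certificate is the mask of `tor (sv 6)` -/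
theorem psi_D8 : ∀ s < 240, Cfsg.Agent.Helper18.E8Odd.D8.psi.testBit s = !par 6 s := by
  decide +kernel

/-- (PSI82) the mask of helper18's `E₇ × A₁` certificate is the mask of `tor (sv 82)` -/
theorem psi_E7A1 : ∀ s < 240, Cfsg.Agent.Helper18.E8Odd.E7A1.psi.testBit s = !par 82 s := by
  decide +kernel

/-- (NP) the numbers of positive roots with value `1` -/
theorem npos_6 : (chevE8.posRoots.filter fun r => !par 6 r).length = 56 := by
  decide +kernel

theorem npos_82 : (chevE8.posRoots.filter fun r => !par 82 r).length = 64 := by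
  decide +kernel

end Cfsg.Agent.Helper36.E8Odd
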