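import Cfsg.Agent.Helper36.E8Odd.Closed
import Cfsg.Agent.Helper36.E8Odd.PsiTab
import Cfsg.Agent.Helper66.E8Inv2_ELL

/-!
Helper36 (S4281): the order of the centralizer of `tor (sv b)` in `E₈(F)` from a certificate `D : RefSub` of helper18 for the
stabilizer of `tor (sv b)` in the Weyl group (core version: the pieces (ZC), (LC) of the farm enter as hypotheses).
-/

set_option autoImplicit false
set_option maxRecDepth 100000

namespace Cfsg.Agent.Helper36.E8Odd

open Cfsg Cfsg.Lie Cfsg.Agent.Helper18 Cfsg.Agent.Helper18.E8Odd Cfsg.Agent.Helper19.Cox Cfsg.Agent.Helper19.Poinc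
  Cfsg.Agent.Helper19.Twist Cfsg.Agent.Helper36.FieldFix

section
variable {F : Type*} [Field F] [Fintype F]

/-- the statement of the piece (ZC) -/
def HypZC (F : Type*) [Field F] [Fintype F] (b : ℕ) : Prop :=
  ∀ w : List ℕ, (∀ i ∈ w, i < 8) → (nW w ∈ Zc (tor (sv (F := F) b)) ↔ ∀ x < 240, par b (aW w x) = par b x)

/-- the statement of the piece (LC) -/
def HypLC (F : Type*) [Field F] [Fintype F] (b : ℕ) : Prop :=
  ∀ P : List ℕ, ClosedList chevE8 phiE P →
    Nat.card ↥(listSubgroup chevE8 F P ⊓ Zc (tor (sv (F := F) b))) =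
      Fintype.card F ^ (P.filter fun r => !par b r).length

/-- (CZ), core version -/
theorem card_Zc_core (b : ℕ) (hZC : HypZC F b) (hLC : HypLC F b) (D : RefSub)
    (hpsi : ∀ s < 240, D.psi.testBit s = !par b s)
    (hlt : ∀ g : D.cox.Group, ∀ l ∈ D.wd g, l < 8)
    (hpres : ∀ (g : D.cox.Group) (x : ℕ), x < 240 →
      D.psi.testBit (actW reflTabsE8 8 240 (D.wd g) x) = D.psi.testBit x)
    (hinj : ∀ g g' : D.cox.Group,
      (∀ x < 240, actW reflTabsE8 8 240 (D.wd g) x = actW reflTabsE8 8 240 (D.wd g') x) → g = g')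
    (hcov : ∀ w : List ℕ, (∀ i ∈ w, i < 8) →
      (∀ x < 240, D.psi.testBit (actW reflTabsE8 8 240 w x) = D.psi.testBit x) →
      ∃ g : D.cox.Group, ∀ x < 240, actW reflTabsE8 8 240 (D.wd g) x = actW reflTabsE8 8 240 w x)
    (hell : ∀ g : D.cox.Group, D.ell g = ellW D.psi (D.wd g)) :
    Nat.card ↥(chevE8.group F ⊓ Zc (tor (sv (F := F) b))) =
      Fintype.card F ^ (chevE8.posRoots.filter fun r => !par b r).length * (Fintype.card F - 1) ^ 8 *
        ∑ g : D.cox.Group, Fintype.card F ^ D.ell g := by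
  -- preservation of `psi` in terms of `par`
  have hpp : ∀ w : List ℕ, (∀ i ∈ w, i < 8) →
      ((∀ x < 240, par b (aW w x) = par b x) ↔
        ∀ x < 240, D.psi.testBit (actW reflTabsE8 8 240 w x) = D.psi.testBit x) := by
    intro w hw
    constructor
    · intro h x hx
      have hlx : aW w x < 240 := aW_lt w hw x hx
      rw [hpsi x hx, hpsi _ hlx, h x hx]
    · intro h x hx
      have hlx : aW w x < 240 := aW_lt w hw x hx
      have h1 := h x hx
      rw [hpsi x hx, hpsi _ hlx] at h1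
      have h2 : (!par b (aW w x)) = !par b x := h1
      cases hp : par b (aW w x) <;> cases hq : par b x <;> simp_all
  rw [cent_card (tor (sv b)) (tor_mem _) (fun g : D.cox.Group => nW (D.wd g))
    (fun g => nW_mem _ (hlt g))
    (fun g => (hZC _ (hlt g)).mpr ((hpp _ (hlt g)).mpr (hpres g)))
    (fun g g' h => hinj g g' (nW_dist _ _ (hlt g) (hlt g') h))
    ?_]
  · rw [pos_eq_list, hLC _ closed_posRoots, card_diag]
    congr 1
    apply Finset.sum_congr rfl
    intro g _
    rw [Um_nW _ (hlt g), hLC _ (closed_negL _ (hlt g)), hell g,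
      Cfsg.Agent.Helper66.E8Inv2.ell_eq_length b D.psi hpsi _ (hlt g)]
  · intro n hn hnZ
    obtain ⟨w, hw, k, hk, rfl⟩ := monomial_decomp n hn
    have hkZ : k ∈ Zc (tor (F := F) (sv b)) := diagonal_le_Zc _ (tor_mem _) hk
    have hwZ : nW w ∈ Zc (tor (F := F) (sv b)) := by
      have : nW w = k⁻¹ * (k * nW w) := by group
      rw [this]
      exact mul_mem (inv_mem hkZ) hnZ
    have hp := (hpp w hw).mp ((hZC w hw).mp hwZ)
    obtain ⟨g, hg⟩ := hcov w hw hp
    obtain ⟨k', hk', e⟩ := nW_congr (F := F) w (D.wd g) hw (hlt g) (fun r hr => by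
      rw [← (aW_eq_rho w hw r hr).1, ← (aW_eq_rho _ (hlt g) r hr).1]
      exact (hg r hr).symm)
    refine ⟨g, ?_⟩
    show (nW (D.wd g))⁻¹ * (k * nW w) ∈ _
    rw [e]
    have : (nW (F := F) (D.wd g))⁻¹ * (k * (k' * nW (D.wd g))) =
        (nW (D.wd g))⁻¹ * (k * k') * nW (D.wd g) := by group
    rw [this]
    exact conj_mem_diagonal' _ _ (nW_mem _ (hlt g)) (mul_mem hk hk')

end

end Cfsg.Agent.Helper36.E8Odd
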