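import Cfsg.Agent.Helper36.E8Odd.Defs2
import Cfsg.Agent.Helper19.Twist.SpecCount
import Cfsg.Agent.Helper19.Twist.CellWeyl

/-!
Helper36 (S4281), piece (CC): the order of the centralizer of an element `t` of `H` in `E₈(F)` from the Bruhat normal form:
`|C_G(t)| = |C_U(t)| · |H| · ∑_i |C_{U_{n_i}⁻}(t)|`, the `n_i` being representatives in `N ∩ C(t)` modulo `H`.
-/

set_option autoImplicit false
set_option maxRecDepth 100000

namespace Cfsg.Agent.Helper36.E8Odd

open Cfsg Cfsg.Lie Cfsg.Agent.Helper18 Cfsg.Agent.Helper19.Twist Cfsg.Agent.Helper36.FieldFix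
  Cfsg.Agent.Helper36.SigmaBruhat Cfsg.Agent.Helper36.SigmaChev

section
variable {F : Type*} [Field F]

theorem pos_le_group : chevE8.posUnipotent F ≤ chevE8.group F :=
  (le_sup_left : chevE8.posUnipotent F ≤ chevE8.borelSubgroup F).trans borel_le_group

/-- `H` is commutative -/
theorem diagonal_comm (k k' : GL chevE8.Idx F) (hk : k ∈ chevE8.diagonalSubgroup F)
    (hk' : k' ∈ chevE8.diagonalSubgroup F) : k * k' = k' * k := by
  obtain ⟨c, rfl⟩ := (mem_diagonal_iff k).mp hk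
  obtain ⟨d, rfl⟩ := (mem_diagonal_iff k').mp hk'
  rw [tor_mul, tor_mul, mul_comm]

theorem diagonal_le_Zc (t : GL chevE8.Idx F) (ht : t ∈ chevE8.diagonalSubgroup F) :
    chevE8.diagonalSubgroup F ≤ Zc t := fun k hk => (mem_Zc t k).mpr (diagonal_comm k t hk ht)

/-- the Bruhat uniqueness data in the ambient general linear group -/
theorem bruhatHypGL : BruhatHyp (chevE8.posUnipotent F) (chevE8.diagonalSubgroup F) (chevE8.monomialSubgroup F)
    (Um chevE8 F) where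
  inf_eq_bot := (Cfsg.Agent.S1036.result (F := F) chevE8 hE8).2
  conj_mem := fun n hn h hh => conj_mem_diagonal n h hn hh
  coset := by
    intro u₁ hu₁ h₁ hh₁ n₁ hn₁ v₁ hv₁ u₂ hu₂ h₂ hh₂ n₂ hn₂ v₂ hv₂ e
    obtain ⟨-, huniq⟩ := Cfsg.Agent.S1100.result (F := F) chevE8 hE8
    have hUB : chevE8.posUnipotent F ≤ chevE8.borelSubgroup F := le_sup_left
    have hHB : chevE8.diagonalSubgroup F ≤ chevE8.borelSubgroup F := le_sup_right
    exact (huniq (u₁ * h₁) (u₂ * h₂) n₁ n₂ v₁ v₂ (mul_mem (hUB hu₁) (hHB hh₁)) (mul_mem (hUB hu₂) (hHB hh₂))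
      hn₁ hn₂ hv₁ hv₂ e).1
  uniq := by
    intro u₁ hu₁ h₁ hh₁ n hn v₁ hv₁ u₂ hu₂ h₂ hh₂ v₂ hv₂ e
    obtain ⟨-, huniq⟩ := Cfsg.Agent.S1100.result (F := F) chevE8 hE8
    have hUB : chevE8.posUnipotent F ≤ chevE8.borelSubgroup F := le_sup_left
    have hHB : chevE8.diagonalSubgroup F ≤ chevE8.borelSubgroup F := le_sup_right
    exact (huniq (u₁ * h₁) (u₂ * h₂) n n v₁ v₂ (mul_mem (hUB hu₁) (hHB hh₁)) (mul_mem (hUB hu₂) (hHB hh₂))
      hn hn hv₁ hv₂ e).2 rfl
  Um_mul := fun n _ h hh => Um_mul_diag chevE8 hE8 n h hh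

/-- conjugation by an element of `H` stabilizes `U` -/
theorem conj_diag_pos (t u : GL chevE8.Idx F) (ht : t ∈ chevE8.diagonalSubgroup F)
    (hu : u ∈ chevE8.posUnipotent F) : t * u * t⁻¹ ∈ chevE8.posUnipotent F := by
  have h1 := (Cfsg.Agent.S1036.result (F := F) chevE8 hE8).1 ht
  rw [Subgroup.mem_normalizer_iff] at h1
  exact (h1 u).mp hu

/-- conjugation by an element of `H` stabilizes the Bruhat cell subgroups -/
theorem conj_diag_Um (t n v : GL chevE8.Idx F) (ht : t ∈ chevE8.diagonalSubgroup F)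
    (hv : v ∈ Um chevE8 F n) : t * v * t⁻¹ ∈ Um chevE8 F n := by
  obtain ⟨c, rfl⟩ := (mem_diagonal_iff t).mp ht
  have key : Um chevE8 F n ≤ (Um chevE8 F n).comap (MulAut.conj (tor c)).toMonoidHom := by
    unfold Um
    rw [Subgroup.closure_le]
    rintro x ⟨r, u, hr, hcond, hx⟩
    have hx' : x = X r u := Units.ext (by rw [hx, X, xGL_val chevE8 _ (triOK_of_mem chevE8 hE8)])
    rw [SetLike.mem_coe, Subgroup.mem_comap]
    have e : (MulAut.conj (tor c)).toMonoidHom x = tor c * x * (tor c)⁻¹ := rfl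
    rw [e, hx', tor_conj c r hr.1]
    apply Subgroup.subset_closure
    exact ⟨r, _, hr, hcond, by rw [X, xGL_val chevE8 _ (triOK_of_mem chevE8 hE8)]⟩
  exact key hv

end

section
variable {F : Type*} [Field F] [Fintype F]

/-- (CC) the order of the centralizer of `t ∈ H` -/
theorem cent_card (t : GL chevE8.Idx F) (ht : t ∈ chevE8.diagonalSubgroup F)
    {I : Type} [Fintype I] (rep : I → GL chevE8.Idx F)
    (hrepN : ∀ i, rep i ∈ chevE8.monomialSubgroup F) (hrepC : ∀ i, rep i ∈ Zc t)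
    (hdist : ∀ i j, (rep i)⁻¹ * rep j ∈ chevE8.diagonalSubgroup F → i = j)
    (hcover : ∀ n ∈ chevE8.monomialSubgroup F, n ∈ Zc t → ∃ i, (rep i)⁻¹ * n ∈ chevE8.diagonalSubgroup F) :
    Nat.card ↥(chevE8.group F ⊓ Zc t) =
      Nat.card ↥(chevE8.posUnipotent F ⊓ Zc t) * Nat.card ↥(chevE8.diagonalSubgroup F) *
        ∑ i, Nat.card ↥(Um chevE8 F (rep i) ⊓ Zc t) := by
  have hUB : chevE8.posUnipotent F ≤ chevE8.borelSubgroup F := le_sup_left
  have hHB : chevE8.diagonalSubgroup F ≤ chevE8.borelSubgroup F := le_sup_right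
  have hHZ := diagonal_le_Zc t ht
  have hUmU : ∀ n, Um chevE8 F n ≤ chevE8.posUnipotent F := fun n => bruhatU_le_pos chevE8 n
  set G1 : Subgroup (GL chevE8.Idx F) := chevE8.group F ⊓ Zc t with hG1
  have hrepG : ∀ i, rep i ∈ G1 := fun i => ⟨monomial_le_group (hrepN i), hrepC i⟩
  -- the inner automorphism
  set σ : GL chevE8.Idx F ≃* GL chevE8.Idx F := MulAut.conj t with hσ
  have σ_apply : ∀ g, σ g = t * g * t⁻¹ := fun g => rfl
  have σ_fix : ∀ g, g ∈ Zc t → σ g = g := by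
    intro g hg
    rw [σ_apply, ← (mem_Zc t g).mp hg]
    group
  have fix_σ : ∀ g, σ g = g → g ∈ Zc t := by
    intro g hg
    rw [mem_Zc]
    rw [σ_apply] at hg
    calc g * t = (t * g * t⁻¹) * t := by rw [hg]
      _ = t * g := by group
  -- existence of the normal form with factors in `G¹`
  have hex : ∀ g ∈ G1, ∃ i, ∃ b ∈ chevE8.borelSubgroup F ⊓ G1, ∃ u ∈ Um chevE8 F (rep i) ⊓ G1,
      g = b * rep i * u := by
    rintro g ⟨hgG, hgZ⟩
    obtain ⟨b, hb, n, hn, v, hv, e⟩ := (Cfsg.Agent.S1100.result (F := F) chevE8 hE8).1 g hgG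
    obtain ⟨u, hu, h, hh, rfl⟩ := borel_decomp chevE8 hE8 b hb
    have hv' : v ∈ Um chevE8 F n := hv
    have hfix : σ (u * h * n * v) = u * h * n * v := by rw [← e]; exact σ_fix g hgZ
    have hff := fixed_factors (bruhatHypGL (F := F)) σ
      (fun x hx => conj_diag_pos t x ht hx)
      (fun x hx => mul_mem (mul_mem ht hx) (inv_mem ht))
      (fun x hx => mul_mem (mul_mem (diagonal_le_monomial ht) hx) (inv_mem (diagonal_le_monomial ht)))
      (fun m hm x hx => by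
        have e1 : σ m = m * (m⁻¹ * t * m * t⁻¹) := by rw [σ_apply]; group
        have h1 : m⁻¹ * t * m * t⁻¹ ∈ chevE8.diagonalSubgroup F :=
          mul_mem (conj_mem_diagonal' m t hm ht) (inv_mem ht)
        rw [e1, Um_mul_diag chevE8 hE8 _ _ h1]
        exact conj_diag_Um t m x ht hx)
      u h n v hu hh hn hv' hfix
    have huZ : u ∈ Zc t := fix_σ u hff.1
    have hvZ : v ∈ Zc t := fix_σ v hff.2
    have hvU : v ∈ chevE8.posUnipotent F := hUmU n hv'
    have hmZ : h * n ∈ Zc t := monomial_mem (Zc t) u h n v (by rw [← e]; exact hgZ) huZ hvZ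
    have hmN : h * n ∈ chevE8.monomialSubgroup F := mul_mem (diagonal_le_monomial hh) hn
    obtain ⟨i, hi⟩ := hcover _ hmN hmZ
    set k : GL chevE8.Idx F := (rep i)⁻¹ * (h * n) with hk
    have hk' : rep i * k * (rep i)⁻¹ ∈ chevE8.diagonalSubgroup F := conj_mem_diagonal _ _ (hrepN i) hi
    have hcell : Um chevE8 F (rep i) = Um chevE8 F n := by
      have h1 : rep i = n * (n⁻¹ * h * n * k⁻¹) := by rw [hk]; group
      have h2 : n⁻¹ * h * n * k⁻¹ ∈ chevE8.diagonalSubgroup F :=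
        mul_mem (conj_mem_diagonal' n h hn hh) (inv_mem hi)
      rw [h1, Um_mul_diag chevE8 hE8 _ _ h2]
    refine ⟨i, u * (rep i * k * (rep i)⁻¹), ⟨?_, ?_, ?_⟩, v, ⟨?_, ?_, hvZ⟩, ?_⟩
    · exact mul_mem (hUB hu) (hHB hk')
    · exact mul_mem (pos_le_group hu) (diagonal_le_group hk')
    · exact mul_mem huZ (hHZ hk')
    · rw [hcell]; exact hv'
    · exact pos_le_group hvU
    · rw [e, hk]; group
  -- the Borel part
  have hB : ∀ b ∈ chevE8.borelSubgroup F ⊓ G1, ∃ u ∈ chevE8.posUnipotent F ⊓ G1,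
      ∃ h ∈ chevE8.diagonalSubgroup F ⊓ G1, b = u * h := by
    rintro b ⟨hb, hbG, hbZ⟩
    obtain ⟨u, hu, h, hh, rfl⟩ := borel_decomp chevE8 hE8 b hb
    have huZ : u ∈ Zc t := by
      have : u = (u * h) * h⁻¹ := by group
      rw [this]
      exact mul_mem hbZ (inv_mem (hHZ hh))
    exact ⟨u, ⟨hu, pos_le_group hu, huZ⟩, h, ⟨hh, diagonal_le_group hh, hHZ hh⟩, rfl⟩
  rw [card_twisted_of_decomp chevE8 hE8 G1 rep hrepN hrepG hdist hex,
    card_borel_of_decomp chevE8 G1 hB (Cfsg.Agent.S1036.result (F := F) chevE8 hE8).2]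
  have e1 : chevE8.posUnipotent F ⊓ G1 = chevE8.posUnipotent F ⊓ Zc t := by
    rw [hG1, ← inf_assoc, inf_eq_left.mpr pos_le_group]
  have e2 : chevE8.diagonalSubgroup F ⊓ G1 = chevE8.diagonalSubgroup F := by
    rw [inf_eq_left]
    exact le_inf diagonal_le_group hHZ
  have e3 : ∀ i, Um chevE8 F (rep i) ⊓ G1 = Um chevE8 F (rep i) ⊓ Zc t := by
    intro i
    rw [hG1, ← inf_assoc, inf_eq_left.mpr ((hUmU _).trans pos_le_group)]
  rw [e1, e2]
  congr 1
  apply Finset.sum_congr rfl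
  intro i _
  rw [e3 i]

end

end Cfsg.Agent.Helper36.E8Odd
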