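import Cfsg.Agent.Helper36.E8Odd.Ports
import Cfsg.Agent.Helper18.CommTerms

/-!
Helper36 (S4281): closed lists of positive roots of `E₈` for helper19's ordered products: all positive roots (GRCLP), and the
positive roots made negative by a word (CLN), through helper18's linear model (ADD).
-/

set_option autoImplicit false
set_option maxRecDepth 100000

namespace Cfsg.Agent.Helper36.E8Odd

open Cfsg Cfsg.Lie Cfsg.Agent.Helper18 Cfsg.Agent.Helper18.E8Odd Cfsg.Agent.Helper19.Twist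
  Cfsg.Agent.Helper19.Cox Cfsg.Agent.Helper19.Poinc

/-- (GR) helper40's grading satisfies helper19's condition -/
theorem gradeOK'_E8 : gradeOK' chevE8 phiE Cfsg.Agent.Helper40.UData.witE8 = true := by
  have h := Cfsg.Agent.Helper40.UData.gradeOK_E8
  unfold Cfsg.Agent.Helper40.UGrade.gradeOK at h
  rw [Bool.and_eq_true] at h
  exact h.1

theorem sorted_posRoots : chevE8.posRoots.Pairwise fun a b => phiE a < phiE b := by
  have h := Cfsg.Agent.Helper40.UData.gradeOK_E8
  unfold Cfsg.Agent.Helper40.UGrade.gradeOK at h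
  rw [Bool.and_eq_true] at h
  exact Cfsg.Agent.Helper40.UGrade.pairwise_of_incr _ _ h.2

/-- (CLP) the list of all positive roots is closed -/
theorem closed_posRoots : ClosedList chevE8 phiE chevE8.posRoots where
  sorted := sorted_posRoots
  pos := fun r hr => (Cfsg.Agent.Helper40.UProd.mem_posRoots chevE8 r).mp hr
  closed := fun r hr s hs c hc =>
    (Cfsg.Agent.Helper40.UProd.mem_posRoots chevE8 _).mpr
      (commTerms_pos' gradeOK'_E8 r s ((Cfsg.Agent.Helper40.UProd.mem_posRoots chevE8 r).mp hr)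
        ((Cfsg.Agent.Helper40.UProd.mem_posRoots chevE8 s).mp hs) c hc).1

/-- the inverse of the Cartan matrix of `E₈` -/
def CinvTab : List (List ℤ) :=
  [[4, 5, 7, 10, 8, 6, 4, 2], [5, 8, 10, 15, 12, 9, 6, 3], [7, 10, 14, 20, 16, 12, 8, 4],
   [10, 15, 20, 30, 24, 18, 12, 6], [8, 12, 16, 24, 20, 15, 10, 5], [6, 9, 12, 18, 15, 12, 8, 4],
   [4, 6, 8, 12, 10, 8, 6, 3], [2, 3, 4, 6, 5, 4, 3, 2]]

def Cinv : Matrix (Fin 8) (Fin 8) ℤ := Matrix.of fun i k => (CinvTab.getD i.val []).getD k.val 0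

theorem Cinv_mul : Cinv * Cmat = 1 := by decide +kernel

/-- the form `B` is non-degenerate -/
theorem eq_zero_of_B (d : V) (h : ∀ k : Fin 8, B (e k) d = 0) : d = 0 := by
  have h1 : Cmat.mulVec d = 0 := by
    funext k
    have h2 := h k
    rw [B_apply] at h2
    have h3 : e k ⬝ᵥ Cmat.mulVec d = Cmat.mulVec d k := by
      unfold e
      rw [single_dotProduct, one_mul]
    rw [h3] at h2
    exact h2
  have h4 : (Cinv * Cmat).mulVec d = 0 := by
    rw [← Matrix.mulVec_mulVec, h1, Matrix.mulVec_zero]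
  rw [Cinv_mul, Matrix.one_mulVec] at h4
  exact h4

/-- (ADD) the coefficient vectors of the roots of the commutator formula -/
theorem cf_commTerms (r s : ℕ) (hr : r < 240) (hs : s < 240) (c : ℕ × ℤ × ℕ × ℕ) (hc : c ∈ chevE8.commTerms r s) :
    c.1 < 240 ∧ cf c.1 = (c.2.2.1 : ℤ) • cf r + (c.2.2.2 : ℤ) • cf s := by
  have hadd := addAllOK_of_mem chevE8 hE8
  unfold addAllOK at hadd
  rw [List.all_eq_true] at hadd
  have hlt : c.1 < 240 :=
    (commTerms_lvl chevE8 hE8 (fun x => chevE8.cartan 0 x)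
      (fun v hv => isAdditiveAt_cartan chevE8 0 (hadd 0 (List.mem_range.mpr (by decide))) v hv) r s hr hs c hc).1
  refine ⟨hlt, ?_⟩
  have key : cf c.1 - ((c.2.2.1 : ℤ) • cf r + (c.2.2.2 : ℤ) • cf s) = 0 := by
    apply eq_zero_of_B
    intro k
    have h1 := (commTerms_lvl chevE8 hE8 (fun x => chevE8.cartan k.val x)
      (fun v hv => isAdditiveAt_cartan chevE8 k.val (hadd k.val (List.mem_range.mpr k.isLt)) v hv) r s hr hs c hc).2.1
    rw [cartan_eq_B k _ hlt, cartan_eq_B k r hr, cartan_eq_B k s hs] at h1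
    rw [map_sub, map_add, map_smul, map_smul, h1, smul_eq_mul, smul_eq_mul]
    ring
  exact sub_eq_zero.mp key

/-- (CLN) the positive roots made negative by a word form a closed list -/
theorem closed_negL (w : List ℕ) (hw : ∀ i ∈ w, i < 8) : ClosedList chevE8 phiE (negL w) where
  sorted := sorted_posRoots.sublist List.filter_sublist
  pos := fun r hr => (Cfsg.Agent.Helper40.UProd.mem_posRoots chevE8 r).mp (List.mem_filter.mp hr).1
  closed := by
    intro r hr s hs c hc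
    obtain ⟨⟨hr1, hr2⟩, hr3⟩ := (mem_negL w r).mp hr
    obtain ⟨⟨hs1, hs2⟩, hs3⟩ := (mem_negL w s).mp hs
    have hpos := closed_posRoots.closed r ((mem_posRoots_iff r).mpr ⟨hr1, hr2⟩) s ((mem_posRoots_iff s).mpr ⟨hs1, hs2⟩) c hc
    obtain ⟨hc1, hc2⟩ := (mem_posRoots_iff c.1).mp hpos
    rw [mem_negL]
    refine ⟨⟨hc1, hc2⟩, ?_⟩
    obtain ⟨-, hcf⟩ := cf_commTerms r s hr2 hs2 c hc
    obtain ⟨hlt, e1⟩ := cf_aW w hw c.1 hc2
    obtain ⟨hltr, e2⟩ := cf_aW w hw r hr2
    obtain ⟨hlts, e3⟩ := cf_aW w hw s hs2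
    by_contra hge
    rw [not_lt] at hge
    obtain ⟨hp, -, hne⟩ := cf_sign _ hlt
    have hp' := hp hge
    have hnr := (cf_sign _ hltr).2.1 hr3
    have hns := (cf_sign _ hlts).2.1 hs3
    apply hne
    have e4 : cf (aW w c.1) = (c.2.2.1 : ℤ) • cf (aW w r) + (c.2.2.2 : ℤ) • cf (aW w s) := by
      rw [e1, e2, e3, hcf, map_add, map_smul, map_smul]
    funext k
    have h5 : 0 ≤ cf (aW w c.1) k := hp' k
    have h6 : cf (aW w c.1) k = (c.2.2.1 : ℤ) * cf (aW w r) k + (c.2.2.2 : ℤ) * cf (aW w s) k := by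
      rw [e4]
      simp
    have h7 : cf (aW w r) k ≤ 0 := hnr k
    have h8 : cf (aW w s) k ≤ 0 := hns k
    have h9 : (0 : ℤ) ≤ (c.2.2.1 : ℤ) := Int.natCast_nonneg _
    have h10 : (0 : ℤ) ≤ (c.2.2.2 : ℤ) := Int.natCast_nonneg _
    have h11 : (c.2.2.1 : ℤ) * cf (aW w r) k ≤ 0 := mul_nonpos_of_nonneg_of_nonpos h9 h7
    have h12 : (c.2.2.2 : ℤ) * cf (aW w s) k ≤ 0 := mul_nonpos_of_nonneg_of_nonpos h10 h8
    show cf (aW w c.1) k = 0
    apply le_antisymm _ h5
    rw [h6]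
    linarith

end Cfsg.Agent.Helper36.E8Odd
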