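import Cfsg.Agent.Helper36.E8Odd.WApi
import Cfsg.Agent.Helper18.E8Odd.Defs
import Cfsg.Agent.Helper40.UDataE8
import Cfsg.Agent.Helper84.TorD_TINJ
import Cfsg.Agent.S1035

/-!
Helper36 (S4281, with helper18): definitions and small generic facts for PART II (the involutions of `H` under `N`) and
PART III(a) (centralizer orders) in `E₈(F)`, `|F|` odd.

* `sv b`, `b < 256` a bit mask: the sign tuple; `tor (sv b)` are the `256` elements of `H` of order at most two.
* `par b s`: the root `s` takes the value `-1` on `tor (sv b)`; `parS b i` the same at the fundamental root `p_i` from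
  helper18's literal Cartan matrix; `flipB i b` the mask of `n_i tor (sv b) n_i⁻¹`.
* `depthTab`: the distance of a mask to the representatives `6` (type `D₈`) and `82` (type `E₇ × A₁`).
* `Zc t` the centralizer in the ambient general linear group; `negL w` the positive roots made negative by `w`.
-/

set_option autoImplicit false
set_option maxRecDepth 100000

namespace Cfsg.Agent.Helper36.E8Odd

open Cfsg Cfsg.Lie Cfsg.Agent.Helper18 Cfsg.Agent.Helper18.E8Odd

section Defs
variable {F : Type*} [Field F]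

/-- the sign tuple of the bit mask `b` -/
def sv (b : ℕ) : Fin chevE8.rank → Fˣ := fun i => if b.testBit i.val then -1 else 1

/-- the centralizer of an element in the ambient group -/
def Zc (t : GL chevE8.Idx F) : Subgroup (GL chevE8.Idx F) := Subgroup.centralizer {t}

theorem mem_Zc (t g : GL chevE8.Idx F) : g ∈ Zc t ↔ g * t = t * g := by
  unfold Zc
  rw [Subgroup.mem_centralizer_iff]
  constructor
  · intro h
    exact (h t rfl).symm
  · intro h x hx
    rw [Set.mem_singleton_iff.mp hx]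
    exact h.symm

end Defs

/-- `Σ_{i ∈ b} ⟨s, p_i^∨⟩` -/
def parSum (b s : ℕ) : ℤ := ((List.range 8).map fun i => if b.testBit i then chevE8.cartan i s else 0).sum

/-- the root `s` takes the value `-1` on `tor (sv b)` -/
def par (b s : ℕ) : Bool := decide (parSum b s % 2 = 1)

/-- the same for the fundamental root `p_i`, from helper18's literal Cartan matrix `CmTab` -/
def parS (b i : ℕ) : Bool :=
  decide (((List.range 8).map fun j => if b.testBit j then (CmTab.getD j []).getD i 0 else 0).sum % 2 = 1)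

/-- the fundamental reflection `s_i` flips the bit `i` of `b` iff `p_i` takes the value `-1` -/
def flipB (i b : ℕ) : ℕ := if parS b i then b ^^^ (1 <<< i) else b

/-- the positive roots made negative by the word `w`, in the order of `chevE8.posRoots` -/
def negL (w : List ℕ) : List ℕ := chevE8.posRoots.filter fun r => decide (aW w r < 120)

/-- the grading of helper40 -/
abbrev phiE := Cfsg.Agent.Helper40.UData.phiE8

/-- the depth table of the two orbits of `W(E₈)` on the `255` non-trivial sign tuples (distance to `6` resp. `82`) -/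
def depthTab : List ℕ :=
  [0, 28, 28, 2, 28, 27, 0, 1, 28, 4, 27, 3, 27, 26, 26, 25, 28, 6, 16, 22, 8, 7, 24, 23, 27, 5, 26, 4, 26,
  25, 25, 24, 28, 8, 14, 20, 10, 9, 22, 21, 12, 18, 13, 19, 11, 10, 12, 11, 27, 7, 15, 21, 9, 8, 23, 22, 26,
  6, 25, 5, 25, 24, 24, 23, 28, 10, 16, 18, 12, 11, 20, 19, 14, 16, 15, 17, 13, 12, 14, 13, 16, 14, 0, 16, 12,
  13, 16, 15, 15, 15, 16, 16, 14, 13, 15, 14, 27, 9, 15, 19, 11, 10, 21, 20, 13, 17, 14, 18, 12, 11, 13, 12,
  26, 8, 16, 20, 10, 9, 22, 21, 25, 7, 24, 6, 24, 23, 23, 22, 28, 12, 18, 16, 14, 13, 18, 17, 16, 14, 17, 15,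
  15, 14, 16, 15, 18, 12, 2, 18, 10, 11, 18, 17, 17, 13, 18, 14, 16, 15, 17, 16, 20, 10, 4, 20, 8, 9, 20, 19,
  6, 22, 5, 21, 7, 8, 6, 7, 19, 11, 3, 19, 9, 10, 19, 18, 18, 12, 19, 13, 17, 16, 18, 17, 27, 11, 17, 17, 13,
  12, 19, 18, 15, 15, 16, 16, 14, 13, 15, 14, 17, 13, 1, 17, 11, 12, 17, 16, 16, 14, 17, 15, 15, 14, 16, 15,
  26, 10, 16, 18, 12, 11, 20, 19, 14, 16, 15, 17, 13, 12, 14, 13, 25, 9, 17, 19, 11, 10, 21, 20, 24, 8, 23, 7,
  23, 22, 22, 21]

/-- (DEPTH) every non-trivial mask has depth `0` and is one of the two representatives, or a flip decreases the depth -/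
theorem depth_ok : ∀ b < 256, 0 < b →
    (depthTab.getD b 0 = 0 ∧ (b = 6 ∨ b = 82)) ∨ ∃ i < 8, depthTab.getD (flipB i b) 0 < depthTab.getD b 0 ∧
      0 < flipB i b ∧ flipB i b < 256 := by
  decide +kernel

/-- the centralizer inside a subgroup -/
theorem card_centralizer_subtype {Γ : Type*} [Group Γ] (G : Subgroup Γ) (s : ↥G) :
    Nat.card ↥(Subgroup.centralizer ({s} : Set ↥G)) =
      Nat.card ↥(G ⊓ Subgroup.centralizer ({(s : Γ)} : Set Γ)) := by
  apply Nat.card_congr
  refine ⟨fun x => ⟨(x.1 : Γ), x.1.2, ?_⟩, fun y => ⟨⟨(y : Γ), y.2.1⟩, ?_⟩, fun x => rfl, fun y => rfl⟩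
  · show (x.1 : Γ) ∈ Subgroup.centralizer ({(s : Γ)} : Set Γ)
    rw [Subgroup.mem_centralizer_iff]
    intro h hh
    rw [Set.mem_singleton_iff.mp hh]
    have := (Subgroup.mem_centralizer_iff.mp x.2) s rfl
    exact congrArg Subtype.val this
  · rw [Subgroup.mem_centralizer_iff]
    intro h hh
    rw [Set.mem_singleton_iff.mp hh]
    apply Subtype.ext
    exact (Subgroup.mem_centralizer_iff.mp y.2.2) _ rfl

/-- conjugate elements have centralizers of the same order -/
theorem card_centralizer_conj {Γ : Type*} [Group Γ] (g s : Γ) :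
    Nat.card ↥(Subgroup.centralizer ({s} : Set Γ)) = Nat.card ↥(Subgroup.centralizer ({g * s * g⁻¹} : Set Γ)) := by
  apply Nat.card_congr
  refine ⟨fun x => ⟨g * x.1 * g⁻¹, ?_⟩, fun y => ⟨g⁻¹ * y.1 * g, ?_⟩, fun x => ?_, fun y => ?_⟩
  · rw [Subgroup.mem_centralizer_iff]
    intro h hh
    rw [Set.mem_singleton_iff.mp hh]
    have h1 : s * x.1 = x.1 * s := (Subgroup.mem_centralizer_iff.mp x.2) s rfl
    calc g * s * g⁻¹ * (g * x.1 * g⁻¹) = g * (s * x.1) * g⁻¹ := by group
      _ = g * (x.1 * s) * g⁻¹ := by rw [h1]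
      _ = g * x.1 * g⁻¹ * (g * s * g⁻¹) := by group
  · rw [Subgroup.mem_centralizer_iff]
    intro h hh
    rw [Set.mem_singleton_iff.mp hh]
    have h1 : g * s * g⁻¹ * y.1 = y.1 * (g * s * g⁻¹) := (Subgroup.mem_centralizer_iff.mp y.2) _ rfl
    calc s * (g⁻¹ * y.1 * g) = g⁻¹ * ((g * s * g⁻¹) * y.1) * g := by group
      _ = g⁻¹ * (y.1 * (g * s * g⁻¹)) * g := by rw [h1]
      _ = g⁻¹ * y.1 * g * s := by group
  · apply Subtype.ext
    show g⁻¹ * (g * x.1 * g⁻¹) * g = x.1
    group
  · apply Subtype.ext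
    show g * (g⁻¹ * y.1 * g) * g⁻¹ = y.1
    group

section
variable {F : Type*} [Field F] [Fintype F]

theorem neg_one_ne_one_units (hF : Odd (Fintype.card F)) : (-1 : Fˣ) ≠ 1 := by
  intro h
  have h1 : (-1 : F) = 1 := by
    have := congrArg Units.val h
    simpa using this
  have h2 : (2 : F) = 0 := by
    have : (1 : F) + 1 = 0 := by
      nth_rewrite 1 [← h1]
      ring
    rw [← this]; norm_num
  have hc : ringChar F = 2 := by
    have hdvd : ringChar F ∣ 2 := (ringChar.spec F 2).mp (by exact_mod_cast h2)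
    have hp : (ringChar F).Prime := CharP.char_is_prime F (ringChar F)
    exact (Nat.prime_dvd_prime_iff_eq hp Nat.prime_two).mp hdvd
  have h3 : ringChar F ∣ Fintype.card F := by
    have : ((Fintype.card F : ℕ) : F) = 0 := Nat.cast_card_eq_zero F
    exact (ringChar.spec F _).mp this
  rw [hc] at h3
  exact (Nat.not_even_iff_odd.mpr hF) (even_iff_two_dvd.mpr h3)

theorem sv_mul_self (b : ℕ) : sv (F := F) b * sv b = 1 := by
  funext i
  rw [Pi.mul_apply, Pi.one_apply]
  unfold sv
  split_ifs <;> simp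

theorem tor_sv_sq (b : ℕ) : tor (F := F) (sv b) * tor (sv b) = 1 := by
  rw [tor_mul, sv_mul_self, tor_one]

/-- the parametrisation of `H` is injective -/
theorem tor_inj (c d : Fin chevE8.rank → Fˣ) (h : tor (F := F) c = tor d) : c = d :=
  Cfsg.Agent.Helper84.TorD.torusHom_injective (K := F) chevE8 hE8 _ Cfsg.Agent.Helper36.Unimod.invOK_E8 (by decide) h

theorem tor_sv_ne_one (hF : Odd (Fintype.card F)) (b i : ℕ) (hi : i < 8) (hb : b.testBit i = true) :
    tor (F := F) (sv b) ≠ 1 := by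
  intro h
  rw [← tor_one] at h
  have h1 := congrFun (tor_inj _ _ h) (⟨i, hi⟩ : Fin chevE8.rank)
  unfold sv at h1
  rw [if_pos hb, Pi.one_apply] at h1
  exact neg_one_ne_one_units hF h1

theorem card_diag : Nat.card ↥(chevE8.diagonalSubgroup F) = (Fintype.card F - 1) ^ 8 := by
  have h := Cfsg.Agent.S1035.result (F := F) (q := Fintype.card F) rfl (chevE8, 1) (by simp)
  have h' : 1 * Nat.card ↥(chevE8.diagonalSubgroup F) = (Fintype.card F - 1) ^ 8 := h
  rw [one_mul] at h'
  exact h'

end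

end Cfsg.Agent.Helper36.E8Odd
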