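import Cfsg.Agent.Helper36.E8Odd.FinalCore
import Cfsg.Agent.Helper12.E8Inv2_ZCcore

/-!
Helper36 (S4281, with helper18): the final assembly; only the piece (LC) of the farm enters as a hypothesis here.
-/

set_option autoImplicit false
set_option maxRecDepth 100000

namespace Cfsg.Agent.Helper36.E8Odd

open Cfsg Cfsg.Lie Cfsg.Agent.Helper18 Cfsg.Agent.Helper18.E8Odd Cfsg.Agent.Helper19.Cox Cfsg.Agent.Helper19.Poinc
  Cfsg.Agent.Helper19.Twist Cfsg.Agent.Helper36.FieldFix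

section
variable {F : Type*} [Field F] [Fintype F]

/-- (ZC) -/
theorem hypZC (hF : Odd (Fintype.card F)) (b : ℕ) : HypZC F b := fun w hw =>
  Cfsg.Agent.Helper12.E8Inv2.ZC_nW_mem_Zc_iff_of hF (fun b s => Cfsg.Agent.Helper14.E8Inv2.flip_chr_sv b s) b w hw

/-- the final statement, modulo (LC) -/
theorem final_of (hF : Odd (Fintype.card F)) (hLC : ∀ b, HypLC F b) :
    ∃ s t : ↥(Cfsg.Lie.chevE8.group F), orderOf s = 2 ∧ orderOf t = 2 ∧ ¬ IsConj s t ∧ (∀ u : ↥(Cfsg.Lie.chevE8.group F), orderOf u = 2 → IsConj u s ∨ IsConj u t) ∧ Nat.card (Subgroup.centralizer ({s} : Set ↥(Cfsg.Lie.chevE8.group F))) = Fintype.card F ^ 56 * (Fintype.card F ^ 8 - 1) * ∏ i ∈ Finset.Icc 1 7, (Fintype.card F ^ (2 * i) - 1) ∧ Nat.card (Subgroup.centralizer ({t} : Set ↥(Cfsg.Lie.chevE8.group F))) = Fintype.card F ^ 64 * (Fintype.card F ^ 2 - 1) ^ 2 * (Fintype.card F ^ 6 - 1) * (Fintype.card F ^ 8 - 1) * (Fintype.card F ^ 10 - 1) * (Fintype.card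 F ^ 12 - 1) * (Fintype.card F ^ 14 - 1) * (Fintype.card F ^ 18 - 1) := by
  have hm : ∀ b : ℕ, tor (F := F) (sv b) ∈ Cfsg.Lie.chevE8.group F := fun b => diagonal_le_group (tor_mem _)
  have hc1 : Nat.card (Subgroup.centralizer ({(⟨tor (sv 6), hm 6⟩ : ↥(Cfsg.Lie.chevE8.group F))} :
      Set ↥(Cfsg.Lie.chevE8.group F))) = Fintype.card F ^ 56 * (Fintype.card F ^ 8 - 1) *
        ∏ i ∈ Finset.Icc 1 7, (Fintype.card F ^ (2 * i) - 1) := by
    rw [card_centralizer_subtype]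
    exact card_Zc6_of (hypZC hF 6) (hLC 6)
  have hc8 : Nat.card (Subgroup.centralizer ({(⟨tor (sv 82), hm 82⟩ : ↥(Cfsg.Lie.chevE8.group F))} :
      Set ↥(Cfsg.Lie.chevE8.group F))) = Fintype.card F ^ 64 * (Fintype.card F ^ 2 - 1) ^ 2 *
        (Fintype.card F ^ 6 - 1) * (Fintype.card F ^ 8 - 1) * (Fintype.card F ^ 10 - 1) * (Fintype.card F ^ 12 - 1) *
        (Fintype.card F ^ 14 - 1) * (Fintype.card F ^ 18 - 1) := by
    rw [card_centralizer_subtype]
    exact card_Zc82_of (hypZC hF 82) (hLC 82)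
  have hord : ∀ (b i : ℕ), i < 8 → b.testBit i = true →
      orderOf (⟨tor (sv b), hm b⟩ : ↥(Cfsg.Lie.chevE8.group F)) = 2 := by
    intro b i hi hb
    apply orderOf_eq_prime
    · rw [pow_two]
      exact Subtype.ext (tor_sv_sq b)
    · intro h
      exact tor_sv_ne_one hF b i hi hb (congrArg Subtype.val h)
  refine ⟨⟨tor (sv 6), hm 6⟩, ⟨tor (sv 82), hm 82⟩, hord 6 1 (by norm_num) (by decide), hord 82 1 (by norm_num) (by decide),
    ?_, ?_, hc1, hc8⟩
  · intro hconj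
    obtain ⟨g, hg⟩ := isConj_iff.mp hconj
    have hq : 2 ≤ Fintype.card F := Fintype.one_lt_card
    apply Cfsg.Agent.Helper66.E8Inv2.arith_ne (Fintype.card F) hq
    rw [← hc1, ← hc8, ← hg]
    exact card_centralizer_conj g _
  · intro u hu
    have hu2 : (u : GL Cfsg.Lie.chevE8.Idx F) * u = 1 := by
      have h1 : u ^ 2 = 1 := by rw [← hu]; exact pow_orderOf_eq_one u
      rw [pow_two] at h1
      exact congrArg Subtype.val h1
    have hu1 : (u : GL Cfsg.Lie.chevE8.Idx F) ≠ 1 := by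
      intro h
      have : u = 1 := Subtype.ext h
      rw [this, orderOf_one] at hu
      norm_num at hu
    rcases invol_classes hF (u : GL Cfsg.Lie.chevE8.Idx F) u.2 hu2 hu1 with ⟨g, hg, e⟩ | ⟨g, hg, e⟩
    · left
      exact isConj_iff.mpr ⟨⟨g, hg⟩, Subtype.ext e⟩
    · right
      exact isConj_iff.mpr ⟨⟨g, hg⟩, Subtype.ext e⟩

end

end Cfsg.Agent.Helper36.E8Odd
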