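import Cfsg.Agent.Helper36.E8Odd.CardZc
import Cfsg.Agent.Helper18.E8Odd.MainI
import Cfsg.Agent.Helper18.E8Odd.P3b
import Cfsg.Agent.Helper14.E8Inv2_ORB
import Cfsg.Agent.Helper69.E8Inv2_DI
import Cfsg.Agent.Helper66.E8Inv2_NE

/-!
Helper36 (S4281, with helper18): the final assembly, core version. The pieces (ZC) and (LC) of the farm enter as the
hypotheses `HypZC`, `HypLC` (for the two representatives); everything else is proved.
-/

set_option autoImplicit false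
set_option maxRecDepth 100000

namespace Cfsg.Agent.Helper36.E8Odd

open Cfsg Cfsg.Lie Cfsg.Agent.Helper18 Cfsg.Agent.Helper18.E8Odd Cfsg.Agent.Helper19.Cox Cfsg.Agent.Helper19.Poinc
  Cfsg.Agent.Helper19.Twist Cfsg.Agent.Helper36.FieldFix

section
variable {F : Type*} [Field F] [Fintype F]

/-- (CL) the two classes of involutions -/
theorem invol_classes (hF : Odd (Fintype.card F)) (u : GL chevE8.Idx F) (hu : u ∈ chevE8.group F)
    (huu : u * u = 1) (hu1 : u ≠ 1) : ConjG u (tor (sv 6)) ∨ ConjG u (tor (sv 82)) := by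
  obtain ⟨k, hk, hkk, hc⟩ := invol_to_diag' hF u hu huu
  have hk1 : k ≠ 1 := by
    intro h
    apply hu1
    obtain ⟨g, hg, e⟩ := hc
    rw [h] at e
    have : u = g⁻¹ * (g * u * g⁻¹) * g := by group
    rw [this, e]
    group
  obtain ⟨b, hb0, hb, rfl⟩ := Cfsg.Agent.Helper69.E8Inv2.diag_invol k hk hkk hk1
  rcases Cfsg.Agent.Helper14.E8Inv2.sv_conj (F := F) b hb0 hb with h | h
  · exact Or.inl (hc.trans h)
  · exact Or.inr (hc.trans h)

/-- (CZ) for a certificate of helper18 -/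
theorem card_Zc_of (b : ℕ) (hZC : HypZC F b) (hLC : HypLC F b) (D : RefSub)
    (hpsi : ∀ s < 240, D.psi.testBit s = !par b s) :
    Nat.card ↥(chevE8.group F ⊓ Zc (tor (sv (F := F) b))) =
      Fintype.card F ^ (chevE8.posRoots.filter fun r => !par b r).length * (Fintype.card F - 1) ^ 8 *
        ∑ g : D.cox.Group, Fintype.card F ^ ellW D.psi (D.wd g) := by
  rw [card_Zc_core b hZC hLC D hpsi (RefSub.wd_lt D) (RefSub.psi_wd D) (RefSub.wd_inj D) (RefSub.stab_cover D)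
    (Cfsg.Agent.Helper29.E8Inv.ell_eq D)]
  congr 1
  apply Finset.sum_congr rfl
  intro g _
  rw [Cfsg.Agent.Helper29.E8Inv.ell_eq D g]

theorem prodIcc7 (q : ℕ) : ∏ i ∈ Finset.Icc 1 7, (q ^ (2 * i) - 1) =
    (q ^ 2 - 1) * (q ^ 4 - 1) * (q ^ 6 - 1) * (q ^ 8 - 1) * (q ^ 10 - 1) * (q ^ 12 - 1) * (q ^ 14 - 1) := by
  have h7 : Finset.Icc 1 7 = ({1, 2, 3, 4, 5, 6, 7} : Finset ℕ) := by decide
  rw [h7]
  simp [mul_assoc]

/-- (F6) the order of the centralizer of `tor (sv 6)` -/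
theorem card_Zc6_of (hZC : HypZC F 6) (hLC : HypLC F 6) :
    Nat.card ↥(chevE8.group F ⊓ Zc (tor (sv (F := F) 6))) =
      Fintype.card F ^ 56 * (Fintype.card F ^ 8 - 1) * ∏ i ∈ Finset.Icc 1 7, (Fintype.card F ^ (2 * i) - 1) := by
  have hq : 1 ≤ Fintype.card F := Fintype.card_pos
  rw [card_Zc_of 6 hZC hLC D8.refSub psi_D8, npos_6, mul_assoc, mul_comm ((Fintype.card F - 1) ^ 8), D8.sum_ellW _ hq]
  rw [prodIcc7]
  ring

/-- (F82) the order of the centralizer of `tor (sv 82)` -/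
theorem card_Zc82_of (hZC : HypZC F 82) (hLC : HypLC F 82) :
    Nat.card ↥(chevE8.group F ⊓ Zc (tor (sv (F := F) 82))) =
      Fintype.card F ^ 64 * (Fintype.card F ^ 2 - 1) ^ 2 * (Fintype.card F ^ 6 - 1) * (Fintype.card F ^ 8 - 1) *
        (Fintype.card F ^ 10 - 1) * (Fintype.card F ^ 12 - 1) * (Fintype.card F ^ 14 - 1) *
        (Fintype.card F ^ 18 - 1) := by
  have hq : 1 ≤ Fintype.card F := Fintype.card_pos
  rw [card_Zc_of 82 hZC hLC E7A1.refSub psi_E7A1, npos_82, mul_assoc, mul_comm ((Fintype.card F - 1) ^ 8),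
    E7A1.sum_ellW _ hq]
  ring

end

end Cfsg.Agent.Helper36.E8Odd
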