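import Cfsg.Agent.Helper36.E8Odd.CentCount

/-!
Helper36 (S4281): three ports from the `F₄` development: `U` is generated by the positive root subgroups (PU), the Bruhat
cell subgroup of `n_w` is generated by the root subgroups of the positive roots made negative by `w` (UM), and
representatives of different elements of the Weyl group are different modulo `H` (DS).
-/

set_option autoImplicit false
set_option maxRecDepth 100000

namespace Cfsg.Agent.Helper36.E8Odd

open Cfsg Cfsg.Lie Cfsg.Agent.Helper18 Cfsg.Agent.Helper19.Twist Cfsg.Agent.Helper36.FieldFix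
  Cfsg.Agent.Helper19.Cox Cfsg.Agent.Helper19.Poinc

theorem hlf_E8 : hlfOf chevE8 = 120 := by decide +kernel

theorem isPos_iff (r : ℕ) : chevE8.IsPosRoot r ↔ 120 ≤ r ∧ r < 240 := by
  have h := isPosRoot_iff chevE8 _ (posOK_of_mem chevE8 hE8) r
  rw [hlf_E8] at h
  exact h

theorem mem_posRoots_iff (r : ℕ) : r ∈ chevE8.posRoots ↔ 120 ≤ r ∧ r < 240 := by
  rw [Cfsg.Agent.Helper40.UProd.mem_posRoots, isPos_iff]

theorem mem_negL (w : List ℕ) (r : ℕ) : r ∈ negL w ↔ (120 ≤ r ∧ r < 240) ∧ aW w r < 120 := by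
  unfold negL
  rw [List.mem_filter, mem_posRoots_iff, decide_eq_true_iff]

variable {F : Type*} [Field F]

/-- (PU) `U` is generated by the positive root subgroups -/
theorem pos_eq_list : chevE8.posUnipotent F = listSubgroup chevE8 F chevE8.posRoots := by
  unfold ChevalleyDatum.posUnipotent listSubgroup
  congr 1
  ext g
  constructor
  · rintro ⟨r, t, hr, hg⟩
    exact ⟨r, t, (Cfsg.Agent.Helper40.UProd.mem_posRoots chevE8 r).mpr hr, hg⟩
  · rintro ⟨r, t, hr, hg⟩
    exact ⟨r, t, (Cfsg.Agent.Helper40.UProd.mem_posRoots chevE8 r).mp hr, hg⟩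

/-- (UM) the Bruhat cell subgroup of `n_w` -/
theorem Um_nW (w : List ℕ) (hw : ∀ i ∈ w, i < 8) :
    Um chevE8 F (nW w) = listSubgroup chevE8 F (negL w) := by
  have htri := Cfsg.Agent.Helper18.triOK_of_mem chevE8 hE8
  have hN : nW (F := F) w ∈ chevE8.monomialSubgroup F := nW_mem w hw
  have e2 : thetaE8 (F := F) ⟨nW w, hN⟩ = gp certE8.M w := theta_nW w hw
  have h1 := Um_eq_UnegW chevE8 hE8 certE8 (Cfsg.Agent.Helper18.nConjHyp chevE8 hE8)
    (⟨nW (F := F) w, hN⟩ : ↥(chevE8.monomialSubgroup F))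
  have h1' : Um chevE8 F (nW w) = UnegW chevE8 certE8 F (gp certE8.M w) := by
    rw [← e2]
    exact h1
  rw [h1']
  unfold UnegW listSubgroup
  congr 1
  ext g
  constructor
  · rintro ⟨r, t, ⟨hr1, hr2⟩, hneg, rfl⟩
    rw [Cfsg.Agent.Helper19.Cox.phi_gp] at hneg
    rw [hlf_E8] at hr1 hneg
    exact ⟨r, t, (mem_negL w r).mpr ⟨⟨hr1, hr2⟩, hneg⟩, Cfsg.Agent.Helper18.xGL_val chevE8 _ htri r t⟩
  · rintro ⟨r, t, hr, hg⟩
    obtain ⟨⟨h3, hr240⟩, h4⟩ := (mem_negL w r).mp hr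
    refine ⟨r, t, ⟨by rw [hlf_E8]; exact h3, hr240⟩, ?_, ?_⟩
    · rw [Cfsg.Agent.Helper19.Cox.phi_gp, hlf_E8]; exact h4
    · exact Units.ext (by rw [hg, Cfsg.Agent.Helper18.xGL_val chevE8 _ htri])

/-- (DS) representatives of different elements of `W` are different modulo `H` -/
theorem nW_dist (w w' : List ℕ) (hw : ∀ i ∈ w, i < 8) (hw' : ∀ i ∈ w', i < 8)
    (h : (nW (F := F) w)⁻¹ * nW w' ∈ chevE8.diagonalSubgroup F) : ∀ x < 240, aW w x = aW w' x := by
  intro x _
  have h1 : nW (F := F) w * (nW w')⁻¹ ∈ chevE8.diagonalSubgroup F := by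
    have h2 := conj_mem_diagonal (nW (F := F) w) _ (nW_mem w hw) (inv_mem h)
    have e : nW (F := F) w * ((nW w)⁻¹ * nW w')⁻¹ * (nW w)⁻¹ = nW w * (nW w')⁻¹ := by group
    rw [e] at h2
    exact h2
  have h3 := rho_eq_of_nW (F := F) w w' hw hw' h1
  have h4 := congrArg (fun g => Cfsg.Agent.Helper19.Cox.phi certE8.M certE8.Mx certE8.hI certE8.hB certE8.hMx g x) h3
  simp only [Cfsg.Agent.Helper19.Cox.phi_gp] at h4
  exact h4

end Cfsg.Agent.Helper36.E8Odd
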