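import Cfsg.Agent.Helper36.E8Odd.NApi

/-!
Helper36 (S4281, with helper18): extra facts on the computable action `aW` of words on the `240` root indices of `E₈`
(negation, the simple root of a letter, positivity), and on the characters `chr`.
-/

set_option autoImplicit false
set_option maxRecDepth 100000

namespace Cfsg.Agent.Helper36.E8Odd

open Cfsg Cfsg.Lie Cfsg.Agent.Helper18 Cfsg.Agent.Helper19.Cox

theorem aW_nil (x : ℕ) : aW [] x = x := rfl

theorem aW_cons (i : ℕ) (w : List ℕ) (x : ℕ) : aW (i :: w) x = aW [i] (aW w x) := rfl

theorem aW_single_neg : ∀ i < 8, ∀ x < 240, aW [i] (239 - x) = 239 - aW [i] x := by decide +kernel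

theorem aW_single_lt : ∀ i < 8, ∀ x < 240, aW [i] x < 240 := by decide +kernel

/-- the action commutes with `x ↦ -x = 239 - x` -/
theorem aW_neg (w : List ℕ) (hw : ∀ i ∈ w, i < 8) (x : ℕ) (hx : x < 240) : aW w (239 - x) = 239 - aW w x := by
  induction w with
  | nil => rfl
  | cons i w ih =>
    have hw' : ∀ j ∈ w, j < 8 := fun j hj => hw j (List.mem_cons_of_mem _ hj)
    rw [aW_cons i w (239 - x), aW_cons i w x, ih hw', aW_single_neg i (hw i List.mem_cons_self) _ (aW_lt w hw' x hx)]

/-- a letter maps its simple root to the negative -/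
theorem aW_single_simple : ∀ i < 8, aW [i] (chevE8.simple i) = 239 - chevE8.simple i := by decide +kernel

/-- a letter permutes the other positive roots -/
theorem aW_single_pos : ∀ i < 8, ∀ x < 240, 120 ≤ x → x ≠ chevE8.simple i → 120 ≤ aW [i] x := by decide +kernel

/-- a letter is an involution on the root indices -/
theorem aW_single_invol : ∀ i < 8, ∀ x < 240, aW [i] (aW [i] x) = x := by decide +kernel

/-- the only positive root made negative by a letter is its simple root -/
theorem aW_single_neg_iff (i : ℕ) (hi : i < 8) (x : ℕ) (hx : x < 240) (hpos : 120 ≤ x) :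
    aW [i] x < 120 ↔ x = chevE8.simple i := by
  constructor
  · intro h
    by_contra hne
    exact absurd (aW_single_pos i hi x hx hpos hne) (by omega)
  · rintro rfl
    rw [aW_single_simple i hi]
    have : ∀ i < 8, 239 - chevE8.simple i < 120 := by decide
    exact this i hi

section
variable {F : Type*} [Field F]

theorem cartan_neg : ∀ i < 8, ∀ s < 240, chevE8.cartan i (239 - s) = - chevE8.cartan i s := by decide +kernel

/-- the character of the negative root is the inverse -/
theorem chr_neg (s : ℕ) (hs : s < 240) (c : Fin chevE8.rank → Fˣ) : chr (239 - s) c = (chr s c)⁻¹ := by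
  unfold chr
  rw [← Finset.prod_inv_distrib]
  apply Finset.prod_congr rfl
  intro i _
  rw [cartan_neg i.val i.isLt s hs, zpow_neg]

end

end Cfsg.Agent.Helper36.E8Odd
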